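import Mathlib
import Cfsg.Agent.Lib.helper14.SL2Sylow

/-!
# BP2 = S5736 (binary coset actions of `PSL₂(q)`), project of helper28: definitions

`Bin G X`  : the action of `G` on `X` is binary (the literal hypothesis of S5736);
`BinS H`   : the same for the coset action `G ⧸ H`, written inside the group (no quotient);
`fx H f`   : the number of fixed points of `f` on `G ⧸ H`;
`pr F`     : the quotient map `SL₂(F) → PSL₂(F)`;
`PU F`, `PB F` : images in `PSL₂(F)` of the upper unitriangular group `US F` and of the upper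
               triangular group `BS F` (both from `Cfsg.Agent.Lib.helper14.SL2Sylow`, with `uS x`,
               `lS x`);
`dg μ`     : the diagonal matrix `diag(μ, μ⁻¹)` in `SL₂(F)`.
-/

set_option autoImplicit false

namespace Cfsg.Agent.Lib.Helper28.BP2

open Cfsg.Agent.Lib.helper14

universe u v

/-- the action of `G` on `X` is binary (relational complexity 2): this is, letter for letter, the
left side of S5736 when `X = G ⧸ H`. -/
def Bin (G : Type u) [Group G] (X : Type v) [MulAction G X] : Prop :=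
  ∀ (n : ℕ) (I J : Fin n → X), 2 ≤ n →
    (∀ i j : Fin n, i ≠ j → ∃ g : G, g • I i = J i ∧ g • I j = J j) → ∃ g : G, ∀ i, g • I i = J i

/-- the coset action `G ⧸ H` is binary, written inside `G`: the point `x i • H` goes to `y i • H`
under `g` iff `(y i)⁻¹ * g * x i ∈ H`. -/
def BinS {G : Type u} [Group G] (H : Subgroup G) : Prop :=
  ∀ (n : ℕ) (x y : Fin n → G), 2 ≤ n →
    (∀ i j : Fin n, i ≠ j → ∃ g : G, (y i)⁻¹ * g * x i ∈ H ∧ (y j)⁻¹ * g * x j ∈ H) →
      ∃ g : G, ∀ i, (y i)⁻¹ * g * x i ∈ H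

/-- number of fixed points of `f` on `G ⧸ H`. -/
noncomputable def fx {G : Type u} [Group G] (H : Subgroup G) (f : G) : ℕ :=
  Nat.card {ω : G ⧸ H // f • ω = ω}

/-- `SL₂(F)`. -/
abbrev SL2 (F : Type u) [Field F] := Matrix.SpecialLinearGroup (Fin 2) F

/-- `PSL₂(F)`. -/
abbrev PSL2 (F : Type u) [Field F] := Matrix.ProjectiveSpecialLinearGroup (Fin 2) F

/-- the quotient map `SL₂(F) → PSL₂(F)`. -/
def pr (F : Type u) [Field F] : SL2 F →* PSL2 F :=
  QuotientGroup.mk' (Subgroup.center (SL2 F))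

/-- image of the upper unitriangular group in `PSL₂(F)`. -/
def PU (F : Type u) [Field F] : Subgroup (PSL2 F) := (US F).map (pr F)

/-- image of the upper triangular group in `PSL₂(F)`. -/
def PB (F : Type u) [Field F] : Subgroup (PSL2 F) := (BS F).map (pr F)

/-- `diag(μ, μ⁻¹)`. -/
def dg {F : Type u} [Field F] (μ : Fˣ) : SL2 F :=
  ⟨!![(μ : F), 0; 0, ((μ⁻¹ : Fˣ) : F)], by
    rw [Matrix.det_fin_two_of, mul_zero, sub_zero, ← Units.val_mul, mul_inv_cancel, Units.val_one]⟩

theorem dg_coe {F : Type u} [Field F] (μ : Fˣ) :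
    ((dg μ : SL2 F) : Matrix (Fin 2) (Fin 2) F) = !![(μ : F), 0; 0, ((μ⁻¹ : Fˣ) : F)] := rfl

end Cfsg.Agent.Lib.Helper28.BP2
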